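import Groth.Prelude.Def_W4c2azumayainvolQEt
import Mathlib.RingTheory.Etale.Field
import Mathlib.RingTheory.Unramified.Field
import Mathlib.RingTheory.LocalRing.Quotient
import Mathlib.RingTheory.Ideal.GoingUp
import Mathlib.LinearAlgebra.Dimension.Constructions

/-!
# The closed fibre of a quadratic etale algebra over a local ring
-/

set_option autoImplicit false
set_option backward.isDefEq.respectTransparency false
set_option linter.style.haveILetI false

universe u v

namespace Groth.Agent.RInvQuot

variable (S : Type u) (R : Type v) [CommRing S] [CommRing R] [Algebra S R] [IsLocalRing S]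

local notation "m" => IsLocalRing.maximalIdeal S
local notation "Q" => R ⧸ Ideal.map (algebraMap S R) (IsLocalRing.maximalIdeal S)

attribute [local instance] Ideal.Quotient.field

theorem facts (hq : RInv.IsQuadEtale S R) :
    Module.Finite (S ⧸ m) Q ∧ Algebra.FormallyUnramified (S ⧸ m) Q ∧ Module.finrank (S ⧸ m) Q = 2 ∧
      IsReduced Q := by
  obtain ⟨_, _, hunr, hrank⟩ := hq
  haveI := hunr
  haveI : Module.Free S R := Module.free_of_flat_of_isLocalRing
  have h2 : Module.finrank S R = 2 := by
    have := hrank ⟨m, inferInstance⟩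
    rw [Module.rankAtStalk_eq_finrank_of_free] at this
    simpa using this
  have hF : Module.Finite (S ⧸ m) Q := Module.Finite.of_restrictScalars_finite S _ _
  have hU : Algebra.FormallyUnramified (S ⧸ m) Q :=
    haveI : Algebra.FormallyUnramified R Q := inferInstance
    haveI : Algebra.FormallyUnramified S Q := Algebra.FormallyUnramified.comp S R Q
    Algebra.FormallyUnramified.of_restrictScalars S (S ⧸ m) Q
  haveI := hF
  haveI := hU
  exact ⟨hF, hU, (IsLocalRing.finrank_quotient_map (R := S) (S := R)).trans h2,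
    Algebra.FormallyUnramified.isReduced_of_field (S ⧸ m) Q⟩

theorem jacobson_eq (hq : RInv.IsQuadEtale S R) : Ring.jacobson R = Ideal.map (algebraMap S R) m := by
  haveI : Module.Finite S R := hq.1
  obtain ⟨hF, -, -, hred⟩ := facts S R hq
  rw [← Ideal.jacobson_bot]
  refine le_antisymm ?_ ?_
  · haveI : IsArtinianRing Q := IsArtinianRing.of_finite (S ⧸ m) Q
    have h0 : Ideal.jacobson (⊥ : Ideal Q) = ⊥ := by
      rw [IsArtinianRing.jacobson_eq_radical]
      exact nilradical_eq_zero Q
    intro x hx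
    rw [← Ideal.Quotient.eq_zero_iff_mem, ← Ideal.mem_bot, ← h0, Ideal.mem_jacobson_bot]
    intro y
    obtain ⟨y, rfl⟩ := Ideal.Quotient.mk_surjective y
    rw [← map_mul, ← map_one (Ideal.Quotient.mk _), ← map_add]
    exact (Ideal.mem_jacobson_bot.mp hx y).map _
  · rw [Ideal.map_le_iff_le_comap]
    intro s hs
    rw [Ideal.mem_comap, Ideal.jacobson, Submodule.mem_sInf]
    rintro M ⟨-, hM⟩
    haveI := hM
    haveI : Algebra.IsIntegral S R := Algebra.IsIntegral.of_finite S R
    have := IsLocalRing.eq_maximalIdeal (Ideal.isMaximal_comap_of_isIntegral_of_isMaximal (R := S) M)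
    rw [← this] at hs
    exact hs

theorem dichotomy (hq : RInv.IsQuadEtale S R) :
    (IsField Q ∧ Module.finrank (S ⧸ m) Q = 2 ∧ Algebra.IsSeparable (S ⧸ m) Q) ∨
      Nonempty (Q ≃ₐ[S ⧸ m] (S ⧸ m) × (S ⧸ m)) := by
  classical
  obtain ⟨hF, hU, h2, -⟩ := facts S R hq
  haveI : Algebra.FormallyEtale (S ⧸ m) Q := Algebra.FormallyEtale.of_formallyUnramified_of_field (S ⧸ m) Q
  obtain ⟨I, _, A, _, _, e, hsep⟩ := (Algebra.FormallyEtale.iff_exists_algEquiv_prod (S ⧸ m) Q).mp inferInstance
  haveI := Fintype.ofFinite I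
  haveI : ∀ i, Module.Finite (S ⧸ m) (A i) := fun i =>
    Module.Finite.of_surjective ((LinearMap.proj i).comp e.toLinearMap) ((Function.surjective_eval i).comp e.surjective)
  have hsum : ∑ i, Module.finrank (S ⧸ m) (A i) = 2 := by
    rw [← Module.finrank_pi_fintype, ← e.toLinearEquiv.finrank_eq, h2]
  have hpos : ∀ i, 1 ≤ Module.finrank (S ⧸ m) (A i) := fun i => Module.finrank_pos
  have hcard : Fintype.card I ≤ 2 := by
    rw [← hsum, Fintype.card_eq_sum_ones]
    exact Finset.sum_le_sum fun i _ => hpos i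
  rcases hcard.lt_or_eq with hlt | heq
  · have h1 : Fintype.card I = 1 := by
      rcases Nat.eq_zero_or_pos (Fintype.card I) with h0 | h0
      · haveI := Fintype.card_eq_zero_iff.mp h0
        simp at hsum
      · omega
    obtain ⟨i, hi⟩ := Fintype.card_eq_one_iff.mp h1
    haveI : Unique I := ⟨⟨i⟩, hi⟩
    have e' : Q ≃ₐ[S ⧸ m] A default := e.trans
      (AlgEquiv.ofBijective (Pi.evalAlgHom (S ⧸ m) A default)
        ⟨fun x y h => funext fun j => by rw [Unique.eq_default j]; exact h, Function.surjective_eval _⟩)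
    exact Or.inl ⟨e'.toMulEquiv.isField (Field.toIsField _), h2,
      haveI := hsep default; AlgEquiv.Algebra.isSeparable e'.symm⟩
  · refine Or.inr ?_
    have hone : ∀ i, Module.finrank (S ⧸ m) (A i) = 1 := fun i => by
      by_contra hne
      have : ∑ _j : I, 1 < ∑ j, Module.finrank (S ⧸ m) (A j) :=
        Finset.sum_lt_sum (fun j _ => hpos j) ⟨i, Finset.mem_univ _, by have := hpos i; omega⟩
      rw [← Fintype.card_eq_sum_ones, hsum, heq] at this
      omega
    have hbij : ∀ i, Function.Bijective (Algebra.ofId (S ⧸ m) (A i)) := fun i =>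
      ⟨(algebraMap (S ⧸ m) (A i)).injective, fun x => by
        obtain ⟨c, hc⟩ := exists_smul_eq_of_finrank_eq_one (hone i) (one_ne_zero (α := A i)) x
        exact ⟨c, by rw [← hc, Algebra.smul_def, mul_one]; rfl⟩⟩
    let f := (Fintype.equivFinOfCardEq heq).symm
    refine ⟨e.trans (AlgEquiv.ofBijective
      (AlgHom.prod ((AlgEquiv.ofBijective _ (hbij (f 0))).symm.toAlgHom.comp (Pi.evalAlgHom _ A (f 0)))
        ((AlgEquiv.ofBijective _ (hbij (f 1))).symm.toAlgHom.comp (Pi.evalAlgHom _ A (f 1)))) ⟨fun x y h => ?_, fun p => ?_⟩)⟩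
    · funext j
      obtain ⟨t, rfl⟩ := f.surjective j
      fin_cases t
      · exact (AlgEquiv.ofBijective _ (hbij (f 0))).symm.injective (congrArg Prod.fst h)
      · exact (AlgEquiv.ofBijective _ (hbij (f 1))).symm.injective (congrArg Prod.snd h)
    · refine ⟨fun j => algebraMap _ (A j) (if f.symm j = 0 then p.1 else p.2), Prod.ext ?_ ?_⟩
      · show (AlgEquiv.ofBijective _ (hbij (f 0))).symm _ = p.1
        rw [AlgEquiv.symm_apply_eq]
        simp
      · show (AlgEquiv.ofBijective _ (hbij (f 1))).symm _ = p.2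
        rw [AlgEquiv.symm_apply_eq]
        simp

end Groth.Agent.RInvQuot
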